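import Cfsg.Agent.LS.QN2
import Cfsg.Agent.S1762
import Cfsg.Agent.H24.He.Red
import Cfsg.Agent.H58.HeP
import Cfsg.Agent.S0243
import Cfsg.Agent.S0280
import Cfsg.Agent.S0364

set_option autoImplicit false

namespace Cfsg.Agent.LS

open Subgroup H29
open scoped commutatorElement

namespace Dat

variable {G : Type*} [Group G] [Finite G] {δ : Dat G}

omit [Finite G] in
theorem Fn.e_ok {g τ : G} (h : δ.Fn g τ) : δ.OK := h.ci.1.ok

omit [Finite G] in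
theorem Fn.e_lam {g τ : G} (h : δ.Fn g τ) (ρ : F) : Lam δ.e ρ := Or.inl h.ci.2

theorem Fn.e_DQ {g τ : G} (h : δ.Fn g τ) {d : G} {v : V4} (hd : δ.InD d v) (e : sg v = v) :
    d ∈ δ.Qg := h.mem_Qg.2 ⟨v, e, Or.inl hd⟩

theorem Fn.e_CQ {g τ : G} (h : δ.Fn g τ) (c : F) : δ.C c ∈ δ.Qg :=
  h.e_DQ (h.e_ok.InD_C c) (by decide)

theorem Fn.e_tauQ {g τ : G} (h : δ.Fn g τ) : τ ∈ δ.Qg :=
  h.mem_Qg.2 ⟨0, by decide, Or.inr (by rw [h.toHp.sq, ← δ.C_zero]; exact h.e_ok.InD_C 0)⟩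

omit [Finite G] in
theorem Fn.e_ncz {g τ : G} (h : δ.Fn g τ) : ¬ δ.CZ τ := fun c => by
  have e := h.tC ω
  rw [(c ω).eq, mul_inv_cancel_right] at e
  exact absurd (h.e_ok.C_inj e) (by decide)

omit [Finite G] in
theorem e_z_sq (δ : Dat G) : δ.z * δ.z = 1 := δ.C_sq 1

omit [Finite G] in
theorem OK.e_z_ord (ok : δ.OK) : orderOf δ.z = 2 := H15.orderOf_two ok.z_ne δ.e_z_sq

/-- elements of `C(Z)` that fix the involutions of `Q` modulo `z` act trivially on `D / Z` -/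
theorem Fn.e_id {g τ : G} (h : δ.Fn g τ) {q : G} (hq : δ.CZ q)
    (fx : ∀ s ∈ δ.Qg, s * s = 1 → q * s * q⁻¹ = s ∨ q * s * q⁻¹ = s * δ.z) : δ.Ac q id := by
  have ok := h.e_ok
  obtain ⟨i, hi⟩ := h.nr q hq
  refine hi.congr (ev_five fun v hv e => ?_)
  obtain ⟨d, hd⟩ := ok.exists_InD (v := v) (h.e_lam _)
  have d2 : d * d = 1 := by rw [ok.InD_sq hd, hv.2.1, δ.C_zero]
  have a := hi d v hd
  rcases fx d (h.e_DQ hd e) d2 with e' | e' <;> rw [e'] at a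
  · exact ok.InD_uniq a hd
  · have := ok.InD_mul hd (ok.InD_C 1)
    rw [add_zero] at this
    exact ok.InD_uniq a this

/-- the centraliser of `Q` -/
theorem Fn.e_cenQ {g τ : G} (h : δ.Fn g τ) {n : G} (c : ∀ a ∈ δ.Qg, n * a = a * n) :
    ∃ o, δ.Od o ∧ (n = o ∨ n = δ.z * o) := by
  have ok := h.e_ok
  have cz : δ.CZ n := fun x => c _ (h.e_CQ x)
  obtain ⟨d, v, o, hd, ho, rfl⟩ := ok.ker cz (h.e_id cz fun s hs _ =>
    Or.inl (by rw [c s hs, mul_inv_cancel_right]))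
  have cd : ∀ a ∈ δ.Qg, δ.CO a → d * a = a * d := fun a ha co => by
    have e := c a ha
    rw [mul_assoc, ← (co o ho).eq, ← mul_assoc, ← mul_assoc] at e
    exact mul_right_cancel e
  have v0 : v = 0 := b4_fix fun w hw => by
    obtain ⟨d', hd'⟩ := ok.exists_InD (v := w) (h.e_lam _)
    have e := ok.InD_comm hd hd'
    rw [cd d' (h.e_DQ hd' hw) hd'.co, mul_inv_cancel_right] at e
    have : δ.C (b4 v w) = δ.C 0 := by
      rw [δ.C_zero]; exact (mul_eq_left.1 e.symm)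
    exact ok.C_inj this
  subst v0
  obtain ⟨x, rfl⟩ := ok.InD_zero hd
  have e := h.tC x
  rw [← cd τ h.e_tauQ h.toHp.co', mul_inv_cancel_right] at e
  have e' := ok.C_inj e
  have : x = 0 ∨ x = 1 := (by decide : ∀ x : F, x = x * x → x = 0 ∨ x = 1) x e'
  rcases this with rfl | rfl
  · exact ⟨o, ho, Or.inl (by rw [δ.C_zero, one_mul])⟩
  · exact ⟨o, ho, Or.inr rfl⟩

theorem Fn.e_Qco {g τ : G} (h : δ.Fn g τ) {a : G} (ha : a ∈ δ.Qg) : δ.CO a := by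
  obtain ⟨v, -, e | e⟩ := h.mem_Qg.1 ha
  · exact e.co
  · have := h.toHp.co'.inv.mul e.co
    rwa [inv_mul_cancel_left] at this

theorem Fn.e_Od_iff {g τ : G} (h : δ.Fn g τ) {n : G} :
    δ.Od n ↔ (∀ a ∈ δ.Qg, n * a = a * n) ∧ Odd (orderOf n) := by
  refine ⟨fun ho => ⟨fun a ha => (h.e_Qco ha n ho).symm.eq, ho.2.2⟩, fun ⟨c, od⟩ => ?_⟩
  obtain ⟨o, ho, e | e⟩ := h.e_cenQ c
  · rwa [e]
  · exfalso
    have cz : Commute δ.z o := (mem_Kc.1 ho.1 _).symm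
    have e1 : n ^ (orderOf n * orderOf o) = 1 := by rw [pow_mul, pow_orderOf_eq_one, one_pow]
    obtain ⟨k, hk⟩ := od.mul ho.2.2
    have e2 : o ^ (orderOf n * orderOf o) = 1 := by rw [pow_mul', pow_orderOf_eq_one, one_pow]
    generalize orderOf n * orderOf o = m at *
    rw [e, cz.mul_pow, e2, mul_one, hk, pow_succ, pow_mul, pow_two, δ.e_z_sq, one_pow,
      one_mul] at e1
    exact h.e_ok.z_ne e1

/-- the subgroup `O` -/
def OK.e_O (ok : δ.OK) : Subgroup G where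
  carrier := {o | δ.Od o}
  mul_mem' := ok.Od_mul
  one_mem' := ⟨one_mem _, fun _ _ => Commute.one_left _, by simp⟩
  inv_mem' := Od.inv

theorem Fn.e_cN {g τ : G} (h : δ.Fn g τ) {n : G} (c : Commute n δ.z) :
    n ∈ normalizer (h.e_ok.e_O : Set G) := by
  refine mem_normalizer_fintype fun o ho => ?_
  obtain ⟨h1, h2⟩ := h.e_Od_iff.1 ho
  refine h.e_Od_iff.2 ⟨fun a ha => ?_, ?_⟩
  · have := h1 _ ((mem_normalizer_iff.1 (inv_mem (h.norm c)) a).1 ha)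
    calc n * o * n⁻¹ * a = n * (o * (n⁻¹ * a * n⁻¹⁻¹)) * n⁻¹ := by group
      _ = a * (n * o * n⁻¹) := by rw [this]; group
  · have := (MulAut.conj n).orderOf_eq o
    rw [MulAut.conj_apply] at this
    rwa [this]

theorem OK.e_coN (ok : δ.OK) {n : G} (c : δ.CO n) : n ∈ normalizer (ok.e_O : Set G) :=
  mem_normalizer_fintype fun o ho => by rw [(c o ho).eq, mul_inv_cancel_right]; exact ho

/-- the conjugates of `z` which commute with `z` -/
theorem Fn.e_conj {g τ : G} (h : δ.Fn g τ) {S : Sylow 2 G} (hS : ∀ s ∈ S, δ.MM s) {y : G}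
    (c : Commute (y * δ.z * y⁻¹) δ.z) : ∃ n m, Commute n δ.z ∧ δ.CO m ∧
      n * (y * δ.z * y⁻¹) * n⁻¹ = m * δ.z * m⁻¹ ∧
      (y * δ.z * y⁻¹ ≠ δ.z → ∃ m', m' * δ.z * m'⁻¹ = δ.z * (m * δ.z * m⁻¹)) := by
  have ok := h.e_ok
  have : Fact (Nat.Prime 2) := ⟨Nat.prime_two⟩
  have sy : H91.SylIn 2 (S : Subgroup G) (centralizer ({δ.z} : Set G)) :=
    (H91.sylIn_top S).of_le (fun s hs => mem_centralizer_singleton_iff.2 (hS s hs).2) le_top
  have y2 : y * δ.z * y⁻¹ * (y * δ.z * y⁻¹) = 1 := by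
    rw [show y * δ.z * y⁻¹ * (y * δ.z * y⁻¹) = y * (δ.z * δ.z) * y⁻¹ by group, δ.e_z_sq]; group
  obtain ⟨n, hn, hi⟩ := STD.exists_conj_mem sy (mem_centralizer_singleton_iff.2 c) (k := 1)
    (by rw [pow_one, pow_two, y2])
  have nz : Commute n δ.z := mem_centralizer_singleton_iff.1 hn
  have nd : ¬ DD δ.ι (n * (y * δ.z * y⁻¹) * n⁻¹) := by
    have := ok.nDD_L (n * y) (u 0 0 1)
    rwa [show n * y * δ.ι (u 0 0 1) * (n * y)⁻¹ = n * (y * δ.z * y⁻¹) * n⁻¹ by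
      rw [show δ.z = δ.ι (u 0 0 1) from rfl]; group] at this
  have ne : y * δ.z * y⁻¹ ≠ δ.z → n * (y * δ.z * y⁻¹) * n⁻¹ ≠ δ.z := fun a b => a (by
    calc y * δ.z * y⁻¹ = n⁻¹ * (n * (y * δ.z * y⁻¹) * n⁻¹) * n := by group
      _ = δ.z := by rw [b, mul_assoc, ← nz.eq, inv_mul_cancel_left])
  generalize hi' : n * (y * δ.z * y⁻¹) * n⁻¹ = i at hi nd ne
  have i2 : i * i = 1 := by
    rw [← hi', show n * (y * δ.z * y⁻¹) * n⁻¹ * (n * (y * δ.z * y⁻¹) * n⁻¹) =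
      n * (y * δ.z * y⁻¹ * (y * δ.z * y⁻¹)) * n⁻¹ by group, y2]; group
  have i1 : i ≠ 1 := fun e => ok.z_ne (by
    calc δ.z = y⁻¹ * n⁻¹ * (n * (y * δ.z * y⁻¹) * n⁻¹) * n * y := by group
      _ = 1 := by rw [hi', e]; group)
  have mi := hS i hi
  rcases h.toHp.cl i2 i1 mi (h.ev mi) with ⟨a, -⟩ | ⟨-, ⟨v, a⟩ | ⟨m, v, a, e⟩⟩
  · exact absurd a nd
  · obtain ⟨m, co, e⟩ := h.ci.conj_z a i2 i1 nd
    refine ⟨n, m, nz, co, hi'.trans e, fun b => ?_⟩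
    have a' := ok.InD_mul (ok.InD_C 1) a
    rw [zero_add] at a'
    obtain ⟨m', -, e'⟩ := h.ci.conj_z a' (by
        rw [show δ.C 1 = δ.z from rfl, mul_assoc, ← mul_assoc i, mi.2.eq, mul_assoc, i2, mul_one,
          δ.e_z_sq])
      (fun e => ne b (by
        rw [show δ.C 1 = δ.z from rfl, ← δ.e_z_sq] at e
        exact mul_left_cancel e))
      (fun d => nd ((h.ci.DV_iff a).2 ((h.ci.DV_iff a').1 d)))
    exact ⟨m', by rw [← e', ← e]; rfl⟩
  · obtain ⟨m', co, e'⟩ := h.toHp.tau_z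
    refine ⟨n, m * m', nz, a.co.mul co, by rw [hi', e, e']; group, fun _ => ?_⟩
    have e1 : δ.C ω * τ * (δ.C ω)⁻¹ = δ.z * τ := by
      have t := h.tC ω
      calc δ.C ω * τ * (δ.C ω)⁻¹ = δ.C ω * (τ * δ.C ω * τ⁻¹) * τ := by rw [δ.C_inv]; group
        _ = δ.z * τ := by
          rw [t, ← δ.C_add, show ω + ω * ω = (1 : F) by decide]; rfl
    have mz : m * δ.z = δ.z * m := (ok.InD_cz a 1).eq
    refine ⟨m * δ.C ω * m', ?_⟩
    calc m * δ.C ω * m' * δ.z * (m * δ.C ω * m')⁻¹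
        = m * (δ.C ω * (m' * δ.z * m'⁻¹) * (δ.C ω)⁻¹) * m⁻¹ := by group
      _ = (m * δ.z) * τ * m⁻¹ := by rw [← e', e1]; group
      _ = δ.z * (m * m' * δ.z * (m * m')⁻¹) := by rw [mz, e']; group

theorem Fn.od [IsSimpleGroup G] {g τ : G} (h : δ.Fn g τ) {o : G} (ho : δ.Od o) : o = 1 := by
  have ok := h.e_ok
  obtain ⟨S, -, DS, hS⟩ := h.toHp.sy (Y := ⊥) IsPGroup.of_bot (fun y hy => by
    rw [mem_bot.1 hy, ← δ.C_zero]; exact (ok.InD_cz (ok.InD_C 0)).mm)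
  have o2 : ∀ a b : F, a * b = 0 → (a ≠ 0 ∨ b ≠ 0) → orderOf (δ.U a b 0) = 2 := fun a b e n =>
    H15.orderOf_two (fun e' => by
      obtain ⟨e1, e2, -⟩ := ok.U_inj (e'.trans δ.U_zero.symm)
      exact n.elim (· e1) (· e2))
      (by rw [δ.U_mul, SA.two, SA.two, e, add_zero, add_zero, δ.U_zero])
  have top := STD.zd_top (M := normalizer (ok.e_O : Set G)) ok.e_z_ord (fun s hs => (hS s hs).2)
    (DS (ok.mem_Dg.2 ⟨0, ok.InD_C 1⟩))
    (fun y c => by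
      obtain ⟨n, m, nz, co, e, -⟩ := h.e_conj hS c
      have c1 : Commute (m⁻¹ * n * y) δ.z := by
        calc m⁻¹ * n * y * δ.z = m⁻¹ * (n * (y * δ.z * y⁻¹) * n⁻¹) * n * y := by group
          _ = δ.z * (m⁻¹ * n * y) := by rw [e]; group
      have := mul_mem (mul_mem (inv_mem (h.e_cN nz)) (ok.e_coN co)) (h.e_cN c1)
      simpa [mul_assoc] using this)
    (fun y c ne => by
      obtain ⟨n, m, nz, -, e, e'⟩ := h.e_conj hS c
      obtain ⟨m', e'⟩ := e' ne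
      refine ⟨n⁻¹ * m', ?_⟩
      calc n⁻¹ * m' * δ.z * (n⁻¹ * m')⁻¹ = n⁻¹ * (m' * δ.z * m'⁻¹) * n := by group
        _ = n⁻¹ * (δ.z * n) * (y * δ.z * y⁻¹) := by rw [e', ← e]; group
        _ = δ.z * (y * δ.z * y⁻¹) := by rw [← nz.eq]; group)
    (o2 1 0 (by decide) (by decide)) (o2 0 1 (by decide) (by decide)) (by
      have : Fact (Nat.Prime 2) := ⟨Nat.prime_two⟩
      have e : δ.U 1 0 0 * δ.U 0 1 0 * (δ.U 1 0 0 * δ.U 0 1 0) = δ.z := by
        rw [δ.U_mul, δ.U_mul]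
        exact congrArg δ.ι (by congr 1 <;> decide)
      exact orderOf_eq_prime_pow (p := 2) (n := 1) (by rw [pow_one, pow_two, e]; exact ok.z_ne)
        (by rw [pow_succ, pow_mul, pow_one, pow_two, pow_two, e, δ.e_z_sq]))
  rcases (normalizer_eq_top_iff.1 top).eq_bot_or_eq_top with e | e
  · exact mem_bot.1 (e ▸ (show o ∈ ok.e_O from ho))
  · have : δ.Od δ.z := (e.ge (mem_top δ.z) : δ.z ∈ ok.e_O)
    have := this.2.2
    rw [ok.e_z_ord] at this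
    exact absurd this (by decide)

theorem Fn.e_core {g τ : G} [IsSimpleGroup G] (h : δ.Fn g τ) {p : G}
    (mm : ∀ n, Commute n δ.z → δ.MM (n⁻¹ * p * n)) : p ∈ δ.Qg := by
  have ok := h.e_ok
  have ex := h.ex
  have mp : δ.MM p := by simpa using mm 1 (Commute.one_left _)
  have fx : ∀ s ∈ δ.Qg, s * s = 1 → p * s * p⁻¹ = s ∨ p * s * p⁻¹ = s * δ.z := by
    intro s hs s2
    by_cases s1 : s = 1
    · exact Or.inl (by rw [s1]; group)
    by_cases sz : s = δ.z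
    · exact Or.inl (by rw [sz, mp.2.eq, mul_inv_cancel_right])
    obtain ⟨n, nz, -, rfl⟩ := h.trans hs s2 s1 sz
    have e0 : p * (n * δ.C ω * n⁻¹) * p⁻¹ = n * (n⁻¹ * p * n * δ.C ω * (n⁻¹ * p * n)⁻¹) * n⁻¹ := by
      group
    rcases ok.MM_cases (mm n nz) with e | e
    · exact Or.inl (by rw [e0, (e ω).eq, mul_inv_cancel_right])
    · refine Or.inr ?_
      rw [e0, e ω, show ω * ω = ω + (1 : F) by decide, δ.C_add, show δ.C 1 = δ.z from rfl,
        mul_assoc, mul_assoc, ← nz.inv_left.eq]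
      group
  have key : ∀ q, δ.CZ q → (∀ s ∈ δ.Qg, s * s = 1 → q * s * q⁻¹ = s ∨ q * s * q⁻¹ = s * δ.z) →
      ∃ v, sg v = v ∧ δ.InD q v := by
    intro q cz f
    obtain ⟨d, v, o, hd, ho, rfl⟩ := ok.ker cz (h.e_id cz f)
    rw [h.od ho, mul_one] at f ⊢
    refine ⟨v, ?_, hd⟩
    have a := h.ac d v hd
    have ti : τ⁻¹ = τ := inv_eq_of_mul_eq_one_right h.toHp.sq
    rcases f τ h.e_tauQ h.toHp.sq with e | e
    · rw [← mul_inv_eq_iff_eq_mul.1 e, mul_inv_cancel_right] at a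
      exact ok.InD_uniq a hd
    · have e1 : τ * d * τ⁻¹ = δ.z * d := by
        have e2 := mul_inv_eq_iff_eq_mul.1 e
        calc τ * d * τ⁻¹ = τ * (d * τ) := by rw [ti, mul_assoc]
          _ = (τ * τ) * δ.z * d := by rw [e2]; group
          _ = δ.z * d := by rw [h.toHp.sq, one_mul]
      have a' := ok.InD_mul (ok.InD_C 1) hd
      rw [zero_add] at a'
      rw [e1] at a
      exact ok.InD_uniq a a'
  rcases h.toHp.cz_or mp with c | c
  · obtain ⟨v, e, a⟩ := key p c fx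
    exact h.mem_Qg.2 ⟨v, e, Or.inl a⟩
  · obtain ⟨v, e, a⟩ := key (τ * p) c fun s hs s2 => by
      have e0 : τ * p * s * (τ * p)⁻¹ = τ * (p * s * p⁻¹) * τ⁻¹ := by group
      have tz : τ * δ.z = δ.z * τ := ex.cen τ h.e_tauQ
      have sz : s * δ.z = δ.z * s := ex.cen s hs
      have e1 : τ * (s * δ.z) * τ⁻¹ = τ * s * τ⁻¹ * δ.z := by
        calc τ * (s * δ.z) * τ⁻¹ = τ * s * τ⁻¹ * (τ * δ.z) * τ⁻¹ := by group
          _ = τ * s * τ⁻¹ * δ.z := by rw [tz]; group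
      rw [e0]
      rcases fx s hs s2 with e | e <;> rcases ex.comm τ h.e_tauQ s hs with e' | e' <;> rw [e]
      · exact Or.inl e'
      · exact Or.inr (by rw [e', sz])
      · exact Or.inr (by rw [e1, e'])
      · exact Or.inl (by rw [e1, e', ← sz, mul_assoc, δ.e_z_sq, mul_one])
    exact h.mem_Qg.2 ⟨v, e, Or.inr a⟩

theorem Fn.e_card {g τ : G} (h : δ.Fn g τ) : 2048 ∣ Nat.card G := by
  have ok := h.e_ok
  have : Fact (Nat.Prime 2) := ⟨Nat.prime_two⟩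
  obtain ⟨S, tS, DS, -⟩ := h.toHp.sy (Y := zpowers τ)
    (STD.isPGroup_zpowers (k := 1) (by rw [pow_one, pow_two, h.toHp.sq])) (fun y hy => by
      rcases (H15.mem_zpowers_two h.toHp.sq).1 hy with e | e <;> rw [e]
      · rw [← δ.C_zero]; exact (ok.InD_cz (ok.InD_C 0)).mm
      · exact h.toHp.mm)
  obtain ⟨k, hk⟩ := IsPGroup.iff_card.1 S.isPGroup'
  have lt : Nat.card δ.Dg < Nat.card S := by
    refine lt_of_le_of_ne (card_le_of_le DS) fun e => ?_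
    have := eq_of_le_of_card_ge DS e.ge
    obtain ⟨v, hv⟩ := ok.mem_Dg.1 (this ▸ tS (mem_zpowers τ))
    exact h.e_ncz (ok.InD_cz hv)
  rw [ok.card_Dg h.ci.2, hk] at lt
  have k11 : 11 ≤ k := by
    by_contra hc
    have : 2 ^ k ≤ 2 ^ 10 := Nat.pow_le_pow_right (by norm_num) (by omega)
    omega
  exact ((pow_dvd_pow 2 k11).trans hk.symm.dvd).trans (card_subgroup_dvd_card (S : Subgroup G))

theorem Fn.suz [IsSimpleGroup G] {g τ : G} (h : δ.Fn g τ) : Cfsg.Spor.IsoSuz G := by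
  have ok := h.e_ok
  have : Fact (Nat.Prime 2) := ⟨Nat.prime_two⟩
  obtain ⟨S, -, -, hS⟩ := h.toHp.sy (Y := ⊥) IsPGroup.of_bot (fun y hy => by
    rw [mem_bot.1 hy, ← δ.C_zero]; exact (ok.InD_cz (ok.InD_C 0)).mm)
  have sy : H91.SylIn 2 (S : Subgroup G) (centralizer ({δ.z} : Set G)) :=
    (H91.sylIn_top S).of_le (fun s hs => mem_centralizer_singleton_iff.2 (hS s hs).2) le_top
  have hz : δ.h * δ.z * δ.h⁻¹ = δ.C (ω * ω * 1) := δ.h_C 1
  obtain ⟨-, z2, hF, hE, hc, -⟩ := H15.setting_of h.ex (fun n c => by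
      obtain ⟨o, ho, e | e⟩ := h.e_cenQ c <;> rw [e, h.od ho]
      · exact one_mem _
      · rw [mul_one]; exact h.ex.mem)
    (fun n c a ha => (mem_normalizer_iff.1 (h.norm c) a).1 ha) (w := 3) (by norm_num)
    h.card_Qg (fun N hN h2 a ha => h.e_core fun n c => by
      have le : N.map (centralizer ({δ.z} : Set G)).subtype ≤ S :=
        sy.le_of_normal (h2.map _) (map_subtype_le _) (by
          rintro b hb _ ⟨x, hx, rfl⟩
          exact ⟨_, hN.conj_mem x hx ⟨b, hb⟩, rfl⟩)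
      refine hS _ (le ⟨_, hN.conj_mem a ha ⟨n, mem_centralizer_singleton_iff.2 c⟩⁻¹, ?_⟩)
      simp)
    δ.h (hz ▸ h.e_CQ _) (by rw [hz]; exact fun e => absurd (ok.C_inj e) (by decide))
  rw [← hF] at hE hc
  have dv := h.e_card
  rcases S1762.result ok.not_comm δ.z z2 (H24.symp_of_extraspecial hE (by rw [hc]; norm_num)) hE hc
    with ⟨K, _, _, hK, ⟨f⟩⟩ | ⟨K, _, _, hK, ⟨f⟩⟩ | ⟨⟨f⟩⟩ | ⟨⟨f⟩⟩ | f
  · have e := S0243.result hK 5 (by decide)
    rw [← Nat.card_congr f.toEquiv] at e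
    simp [Fin.prod_univ_succ] at e
    omega
  · have e := S0280.result (q := 2) hK 5 (by decide)
    rw [← Nat.card_congr f.toEquiv, show (2 ^ (5 * (5 - 1) / 2) * ∏ i ∈ Finset.range 5,
      if Even i then 2 ^ (i + 1) + 1 else 2 ^ (i + 1) - 1) = 41057280 by decide +kernel] at e
    simp at e
    omega
  · rw [Nat.card_congr f.toEquiv, S0364.result] at dv
    omega
  · rw [Nat.card_congr f.toEquiv, H58.HeP.card_eq] at dv
    omega
  · exact f

end Dat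

end Cfsg.Agent.LS
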