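import Cfsg.Agent.LS.LemA
import Cfsg.Agent.S1911
import Cfsg.Agent.STD.Top

set_option autoImplicit false
set_option linter.unusedVariables false
set_option linter.unusedSectionVars false

namespace Cfsg.Agent.LS

open Subgroup H29
open scoped commutatorElement

namespace LC

open LA

variable {G : Type*} [Group G] [Finite G] {ι ι' : P →* G}

theorem u_eq {a b c a' b' c' : F} (e : a = a' ∧ b = b' ∧ c = c') : u a b c = u a' b' c' := by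
  rw [e.1, e.2.1, e.2.2]

theorem fin (h : Hy ι) {t : G} (ht : t ∈ Kc ι) (t2 : t * t = 1) (t1 : t ≠ 1) {l : P} (l2 : l * l = 1) (l1 : l ≠ 1)
    (hd : DD ι (t * ι l)) :
    ∃ (ι : P →* G) (t : G), Hy ι ∧ t ∈ Kc ι ∧ t * t = 1 ∧ t ≠ 1 ∧ DD ι (t * ι (u 0 0 1)) := by
  obtain ⟨g, e⟩ := inv_conj l2 l1
  have f := Fr.tw ι (MulAut.conj g⁻¹)
  refine ⟨_, t, h.fr f, by rwa [Kc_tw], t2, t1, ?_⟩
  rw [← e, tw_apply]
  simpa [mul_assoc] using hd.fr f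

theorem case2 (h : Hy ι) (f : Fr ι ι') {s : G} (hs : s ∈ Kc ι') (s2 : s * s = 1) (s1 : s ≠ 1) {β : MulAut P}
    (e : ∀ q, s * ι q * s⁻¹ = ι (β q)) (hz : β (u 0 0 1) = u 0 0 1) {q : P} (hq : β q * q⁻¹ = u 0 0 1) {l : P} {κ : G}
    (hκ : κ ∈ Kc ι') (e1 : ι (u 0 0 1) = ι' l * κ) :
    ∃ (ι : P →* G) (t : G), Hy ι ∧ t ∈ Kc ι ∧ t * t = 1 ∧ t ≠ 1 ∧ DD ι (t * ι (u 0 0 1)) := by
  have h' := h.fr f
  have z2 : ι (u 0 0 1) * ι (u 0 0 1) = 1 := by rw [← map_mul, c_sq, map_one]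
  obtain ⟨l2, κ2⟩ := sq_of h' hκ (e1 ▸ z2)
  have c : Commute s κ := by
    rw [eq_inv_mul_of_mul_eq e1.symm]
    exact (mem_Kc.1 hs l).inv_right.mul_right (mul_inv_eq_iff_eq_mul.1 (by rw [e, hz]))
  have e2 : s * κ * ι' l = ι q * s * (ι q)⁻¹ := by
    rw [mul_assoc, (mem_Kc.1 hκ l).eq, ← e1, ← hq, map_mul, map_inv, ← e, ← mul_assoc, ← mul_assoc, ← mul_assoc, s2,
      one_mul, inv_eq_of_mul_eq_one_right s2]
  have hd : DD ι' (s * κ * ι' l) := e2 ▸ (DD.of_mem (Fr.refl ι') hs s2 s1).conj _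
  refine fin h' (mul_mem hs hκ) (by rw [← pow_two, c.mul_pow, pow_two, pow_two, s2, κ2, one_mul]) (fun e3 => ?_) l2
    (fun e3 => h.nz (DD.of_mem f ?_ z2 fun e => z_ne (h.inj (e.trans (map_one ι).symm)))) hd
  · rw [e3, one_mul] at hd
    exact h'.not_DD (Fr.refl _) l hd
  · rwa [e1, e3, map_one, one_mul]

theorem case3 {ι₂ : P →* G} (h2 : Hy ι₂) (f2 : Fr ι₂ ι') {s : G} (hs : s ∈ Kc ι') (s2 : s * s = 1) (s1 : s ≠ 1)
    {j k : Bool} (hx : ¬ (j = false ∧ k = false))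
    (e5 : ∀ q, s * ι₂ q * s⁻¹ = ι₂ ((⟨0, 0, 0, j, k⟩ : SA).aut q)) :
    ∃ (ι : P →* G) (t : G), Hy ι ∧ t ∈ Kc ι ∧ t * t = 1 ∧ t ≠ 1 ∧ DD ι (t * ι (u 0 0 1)) := by
  have cN : ∀ q, (⟨0, 0, 0, j, k⟩ : SA).aut q = q → ι₂ q ∈ Nn ι' := fun q e =>
    (h2.fr f2).cent hs s2 s1 (Commute.symm (mul_inv_eq_iff_eq_mul.1 (by rw [e5, e])))
  have A : ∀ c, (⟨0, 0, 0, j, k⟩ : SA).aut (u 1 1 c) = u 1 1 c →
      ∃ l, ∃ κ ∈ Kc ι', ι₂ (u 0 0 1) = ι' l * κ := fun c e => by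
    have := (h2.fr f2).inner_sq (cN _ e) (n := 1) (by rw [← map_mul, u_sq, pow_one, pow_two, ← map_mul, c_sq, map_one])
    rwa [← map_mul, u_sq, mul_one] at this
  cases j <;> cases k
  · exact absurd ⟨rfl, rfl⟩ hx
  · have e6 : ⁅ι₂ hh, ι₂ (u 0 0 (ω * ω))⁆ = ι₂ (u 0 0 1) := by
      rw [← map_commutatorElement, commutatorElement_def, hh_u, M49.u_inv, u_mul]; exact congrArg ι₂ (u_eq (by decide))
    obtain ⟨l, κ, hκ, e7⟩ := (h2.fr f2).inner_comm (cN hh (by simp [SA.aut, u_zero, gr_hh]))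
      (cN (u 0 0 (ω * ω)) (by rw [aut_u]; exact u_eq (by decide))) (n := 1) (by rw [e6, pow_one, pow_two, ← map_mul, c_sq, map_one])
    exact case2 h2 f2 hs s2 s1 e5 (by rw [aut_u]; exact u_eq (by decide)) (q := u 1 1 0) (by rw [aut_u, M49.u_inv, u_mul]; exact u_eq (by decide)) hκ
      (e6 ▸ e7)
  · obtain ⟨l, κ, hκ, e7⟩ := A 0 (by rw [aut_u]; exact u_eq (by decide))
    exact case2 h2 f2 hs s2 s1 e5 (by rw [aut_u]; exact u_eq (by decide)) (q := u 0 0 ω) (by rw [aut_u, M49.u_inv, u_mul]; exact u_eq (by decide)) hκ e7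
  · obtain ⟨l, κ, hκ, e7⟩ := A ω (by rw [aut_u]; exact u_eq (by decide))
    exact case2 h2 f2 hs s2 s1 e5 (by rw [aut_u]; exact u_eq (by decide)) (q := u 0 0 ω) (by rw [aut_u, M49.u_inv, u_mul]; exact u_eq (by decide)) hκ e7

theorem frame {s : G} {β : MulAut P} {x y z : SA} (e1 : ∀ q, s * tw ι β q * s⁻¹ = tw ι β (x.aut q))
    (e : y * x * y⁻¹ = z) (q : P) : s * tw ι (β * y.aut⁻¹) q * s⁻¹ = tw ι (β * y.aut⁻¹) (z.aut q) := by
  have e6 : (y * x * y⁻¹).aut * y.aut = y.aut * x.aut := by rw [← aut_mul, inv_mul_cancel_right, aut_mul]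
  rw [← e, eq_mul_inv_of_mul_eq e6]
  simpa [tw_apply] using e1 (y.aut⁻¹ q)

theorem main (h : Hy ι) (f : Fr ι ι') {s : G} (hs : s ∈ Kc ι') (s2 : s * s = 1) (s1 : s ≠ 1) (hn : s ∈ Nn ι)
    (hk : s ∉ Kc ι) : ∃ (ι : P →* G) (t : G), Hy ι ∧ t ∈ Kc ι ∧ t * t = 1 ∧ t ≠ 1 ∧ DD ι (t * ι (u 0 0 1)) := by
  obtain ⟨p, l, m, φ, e1, -, e3⟩ := h.sa (Y := zpowers s)
    (IsPGroup.of_card (n := 1) (by rw [Nat.card_zpowers, orderOf_eq_prime (by rwa [pow_two]) s1]; rfl))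
    (zpowers_le.2 hn)
  generalize MulAut.conj p * dg l m = β at e1 e3
  have x2 : φ ⟨s, mem_zpowers s⟩ * φ ⟨s, mem_zpowers s⟩ = 1 := by
    rw [← map_mul, show (⟨s, _⟩ * ⟨s, _⟩ : zpowers s) = 1 from Subtype.ext s2, map_one]
  replace e1 := e1 ⟨s, mem_zpowers s⟩
  replace e3 := e3 ⟨s, mem_zpowers s⟩
  generalize φ ⟨s, mem_zpowers s⟩ = x at e1 e3 x2
  have hd := DD.of_mem f hs s2 s1
  by_cases hx : x.inT
  · obtain ⟨κ, hκ, e⟩ := e3 hx
    rw [tw_apply] at e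
    generalize β _ = l at e
    replace e : s = ι l * κ := e
    obtain ⟨l2, κ2⟩ := sq_of h hκ (e ▸ s2)
    refine fin h hκ κ2 (fun e1 => h.not_DD (Fr.refl ι) l ?_) l2 (fun e1 => hk ?_) ?_
    · rwa [e, e1, mul_one] at hd
    · rwa [e, e1, map_one, one_mul]
    · rwa [(mem_Kc.1 hκ l).eq, ← e]
  obtain ⟨y, -, e4⟩ := SA.O1 x2 hx
  have f2 := Fr.tw ι (β * y.aut⁻¹)
  have h2 := h.fr f2
  replace f2 := f2.symm.trans f
  exact case3 h2 f2 hs s2 s1 hx (frame e1 e4)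

theorem hy (L : Subgroup G) (hL : Cfsg.IsStandardSubgroup L) (inj : Function.Injective ι) (r : ι.range = L) :
    Hy ι := by
  subst r
  refine ⟨inj, fun g k hk k2 k1 hg => by_contra fun n => ?_, fun g c => ?_, ?_⟩
  · refine (hL.2.1.2 g (hL.2.2.2 ▸ n)).not_two_dvd_nat ?_
    rw [← H8.orderOf_two_of k2 k1, ← (MulAut.conj g).orderOf_eq]
    exact orderOf_dvd_natCard _ ⟨hg, _, hk, rfl⟩
  · by_cases e : ι.range.map (MulAut.conj g).toMonoidHom = ι.range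
    · obtain ⟨_, ⟨p, rfl⟩, e1⟩ := e.ge ⟨u 0 1 0, rfl⟩
      have e2 := c (u 1 0 0) p
      rw [show g * ι p * g⁻¹ = ι (u 0 1 0) from e1] at e2
      have e3 : u 1 0 0 * u 0 1 0 = u 0 1 0 * u 1 0 0 := inj (by simpa using e2.eq)
      rw [u_mul, u_mul] at e3
      exact absurd (u_inj e3).2.2 (by decide)
    · refine hL.2.2.1 g e (commutator_eq_bot_iff_le_centralizer.2 ?_)
      rintro _ ⟨p, rfl⟩ _ ⟨_, ⟨p', rfl⟩, rfl⟩
      exact (c p p').symm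
  · obtain ⟨k, hk, o⟩ := H43.exists_inv_of_even hL.2.1.1
    exact ⟨k, hk, (sq k).symm.trans (o ▸ pow_orderOf_eq_one k), fun e => by simp [e] at o⟩

end LC

theorem exists_good {G : Type*} [Group G] [Finite G] [IsSimpleGroup G] (L : Subgroup G)
    (hL : Cfsg.IsStandardSubgroup L) (e : L ≃* P) :
    ∃ (ι : P →* G) (t : G), Hy ι ∧ t ∈ Kc ι ∧ t * t = 1 ∧ t ≠ 1 ∧ DD ι (t * ι (u 0 0 1)) := by
  obtain ⟨ι, inj, r⟩ : ∃ ι : P →* G, Function.Injective ι ∧ ι.range = L :=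
    ⟨L.subtype.comp e.symm.toMonoidHom, L.subtype_injective.comp e.symm.injective, by
      rw [MonoidHom.range_comp, MonoidHom.range_eq_top.2 e.symm.surjective, ← MonoidHom.range_eq_map, range_subtype]⟩
  have h := LC.hy L hL inj r
  subst r
  have : Fact (Nat.Prime 2) := ⟨Nat.prime_two⟩
  obtain ⟨k0, hk0, -, k1⟩ := h.ev
  have n1 : ∀ {p}, p ≠ 1 → ι p ≠ 1 := fun n e => n (inj (e.trans (map_one ι).symm))
  obtain ⟨g, hgg⟩ : ∃ g, ¬ (g ∉ _ → _) := not_forall.1 fun a => by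
    rcases S1911.result _ hL.2.1 a with b | b
    · rcases b.eq_bot_or_eq_top with c | c
      · exact k1 (mem_bot.1 (c ▸ hk0))
      · exact LA.z_ne (h.LK (c.ge (mem_top _)))
    · have c := ((inferInstance : (normalClosure (centralizer (ι.range : Set G) : Set G)).Normal)
        |>.eq_bot_or_eq_top).resolve_left fun c => k1 (mem_bot.1 (c ▸ subset_normalClosure hk0))
      have o : ∀ a b : F, a * b = 0 → ¬ (a = 0 ∧ b = 0) → orderOf (ι (u a b 0)) = 2 := fun a b e n =>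
        H8.orderOf_two_of (by rw [← map_mul, LA.u_sq, e, u_zero, map_one])
          (n1 fun e => n ⟨(LA.u_one e).1, (LA.u_one e).2.1⟩)
      refine STD.not_se (a := ⟨ι (u 1 0 0), c.ge (mem_top _)⟩) (b := ⟨ι (u 0 1 0), c.ge (mem_top _)⟩)
        ((orderOf_coe _).symm.trans (o _ _ (by decide) (by decide)))
        ((orderOf_coe _).symm.trans (o _ _ (by decide) (by decide))) ((orderOf_coe _).symm.trans ?_) b
      change orderOf (ι (u 1 0 0) * ι (u 0 1 0)) = _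
      rw [← map_mul, u_mul]
      exact orderOf_eq_prime_pow (p := 2) (n := 1)
        (by rw [pow_one, sq, ← map_mul, LA.u_sq]; exact n1 fun e => absurd (LA.u_one e).2.2 (by decide))
        (by rw [pow_succ, pow_mul, pow_one, sq, sq, ← map_mul, LA.u_sq, ← map_mul, LA.c_sq, map_one])
  obtain ⟨hg, hodd⟩ := Classical.not_imp.1 hgg
  obtain ⟨s, ⟨⟨k, hk, rfl⟩, hs⟩, o⟩ := H43.exists_inv_of_even (Nat.not_odd_iff_even.1 hodd)
  rw [← hL.2.2.2] at hg hs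
  have s2 : g * k * g⁻¹ * (g * k * g⁻¹) = 1 := (sq _).symm.trans (o ▸ pow_orderOf_eq_one _)
  have s1 : g * k * g⁻¹ ≠ 1 := fun e => by simpa using o.symm.trans (orderOf_eq_one_iff.2 e)
  exact LC.main h (Fr.cj ι g) (mem_Kc_cj.2 (by rwa [show g⁻¹ * (g * k * g⁻¹) * g = k by group])) s2 s1 hs fun e =>
    hg (h.ti g k hk (by simpa [conj_mul] using s2) (fun e => s1 (by simp [e])) e)

end Cfsg.Agent.LS
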